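import Groth.Agent.ResLF28.Basic

/-!
# The resolution theorem for locally free modules
-/

set_option autoImplicit false
set_option linter.style.haveILetI false

universe u

open CategoryTheory CategoryTheory.Limits AlgebraicGeometry

noncomputable section

namespace Groth.Agent.ResLF28

variable {X : Scheme.{u}} [IsLocallyNoetherian X]

theorem bijective_of_eq (hX : KRR.HasEnoughLocFree X) (P : ObjectProperty X.Modules) (hP : P = cohBdd X)
    (h : ∀ M : X.Modules, FlatMod.IsFinLocFree M → P ((𝟭 X.Modules).obj M)) :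
    Function.Bijective (SGA6.mapSub (𝟭 X.Modules) (fun M : X.Modules => FlatMod.IsFinLocFree M) P h) := by
  subst hP
  exact bijective_cohBdd hX h

theorem isCoh_eq_cohBdd [CompactSpace X] (hreg : ∀ x : X, IsRegularLocalRing (X.presheaf.stalk x))
    (hX : KRR.HasEnoughLocFree X) : (fun M : X.Modules => Coh.IsCoh M) = cohBdd X :=
  funext fun _ => propext ⟨fun h => ⟨h, bdd_of_regular hreg hX h⟩, fun h => h.1⟩

omit [IsLocallyNoetherian X] in
theorem mapSub_clSub (P Q : ObjectProperty X.Modules) (h : ∀ M : X.Modules, P M → Q ((𝟭 X.Modules).obj M))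
    {M : X.Modules} (hM : P M) : SGA6.mapSub (𝟭 X.Modules) P Q h (KZero.clSub P M) = KZero.clSub Q M := by
  have hQ : Q M := h M hM
  rw [KZero.clSub, KZero.clSub, dif_pos hM, dif_pos hQ]
  show QuotientAddGroup.map _ _ _ _ _ = _
  erw [QuotientAddGroup.map_mk]
  exact congrArg _ (FreeAbelianGroup.map_of_apply _)

end Groth.Agent.ResLF28
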