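import Groth.Agent.Props12.FinLocFree
import Groth.Agent.AssSch12.Primary
import Groth.Agent.ModStalk.Exact
import Groth.Agent.Coherent.CohOps
import Groth.Agent.Coherent.DevissageTwoThree
import Groth.Agent.Coherent.DevissageApps
import Groth.Agent.Coherent.CohBC.HomSheaf
import Groth.Agent.CAlgH3.RegularHom
import Groth.Agent.Resolution28.Main
import Groth.Agent.ExtFilt28.LocFree
import Groth.Agent.SerreDual.ExtShProj
import Groth.Agent.S5165
import Groth.Prelude.Def_KRR
import Groth.Prelude.Def_SGA6

/-!
# Finite resolutions by locally free modules and stalkwise projective dimension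
-/

set_option autoImplicit false
set_option linter.style.haveILetI false
set_option backward.isDefEq.respectTransparency.types false

universe u

open CategoryTheory CategoryTheory.Limits AlgebraicGeometry TopologicalSpace

noncomputable section

namespace Groth.Agent.ResLF28

variable {X : Scheme.{u}}

/-- The stalk as a module. -/
abbrev st (x : X) (M : X.Modules) : ModuleCat.{u} (X.presheaf.stalk x) := (DerSch.stalkFunctor X x).obj M

/-- Bounded projective dimension on stalks. -/
def Bdd (M : X.Modules) : Prop :=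
  ∃ d : ℕ, ∀ x : X, HasProjectiveDimensionLT (st x M) (d + 1)

/-- Coherent modules with bounded projective dimension on stalks. -/
def cohBdd (X : Scheme.{u}) : ObjectProperty X.Modules := fun M => Coh.IsCoh M ∧ Bdd M

theorem LT_mono (x : X) (M : X.Modules) {n m : ℕ} (h : HasProjectiveDimensionLT (st x M) n) (hnm : n ≤ m) :
    HasProjectiveDimensionLT (st x M) m :=
  hasProjectiveDimensionLT_of_ge _ n m hnm

theorem LT_of_iso (x : X) {M N : X.Modules} (e : M ≅ N) {n : ℕ} (h : HasProjectiveDimensionLT (st x M) n) :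
    HasProjectiveDimensionLT (st x N) n :=
  hasProjectiveDimensionLT_of_iso ((DerSch.stalkFunctor X x).mapIso e) n

theorem st_shortExact (x : X) {S : ShortComplex X.Modules} (hS : S.ShortExact) :
    (S.map (DerSch.stalkFunctor X x)).ShortExact :=
  hS.map_of_exact (DerSch.stalkFunctor X x)

variable [IsLocallyNoetherian X]

instance closedIso : (cohBdd X).IsClosedUnderIsomorphisms :=
  ⟨fun e h => ⟨Coherent.isCoh_iso e h.1, h.2.choose, fun x => LT_of_iso x e (h.2.choose_spec x)⟩⟩


theorem LT_one_of_finLocFree {M : X.Modules} (hM : FlatMod.IsFinLocFree M) (x : X) :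
    HasProjectiveDimensionLT (st x M) 1 := by
  haveI := (Coherent.CohBC.isCoh_of_isFinLocFree hM).1
  haveI : Module.Free (X.presheaf.stalk x) (M.presheaf.stalk x) := Props12.free_stalk_of_isFinLocFree M hM x
  haveI : Module.Projective (X.presheaf.stalk x) (st x M : Type u) :=
    inferInstanceAs (Module.Projective (X.presheaf.stalk x) (M.presheaf.stalk x))
  exact projective_iff_hasProjectiveDimensionLT_one.1
    ((IsProjective.iff_projective (R := X.presheaf.stalk x) (st x M)).1 inferInstance)

theorem free_of_LT_one {M : X.Modules} (hM : Coh.IsCoh M) (x : X) (h : HasProjectiveDimensionLT (st x M) 1) :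
    Module.Free (X.presheaf.stalk x) (M.presheaf.stalk x) := by
  haveI : Projective (st x M) := projective_iff_hasProjectiveDimensionLT_one.2 h
  haveI : Module.Projective (X.presheaf.stalk x) (st x M : Type u) :=
    (IsProjective.iff_projective (R := X.presheaf.stalk x) (st x M)).2 inferInstance
  haveI : Module.Projective (X.presheaf.stalk x) (M.presheaf.stalk x) := this
  haveI := AssSch12.finite_stalk hM x
  exact Module.free_of_flat_of_isLocalRing

theorem isFinLocFree_of_LT_one {M : X.Modules} (hM : Coh.IsCoh M) (h : ∀ x, HasProjectiveDimensionLT (st x M) 1) :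
    FlatMod.IsFinLocFree M := by
  haveI := hM.1
  exact Props12.isFinLocFree_of_isFP_of_free_stalks M (Coherent.isFP_of_isCoh hM) fun x => free_of_LT_one hM x (h x)

theorem bdd_of_finLocFree {M : X.Modules} (hM : FlatMod.IsFinLocFree M) : Bdd M :=
  ⟨0, LT_one_of_finLocFree hM⟩

theorem isCoh_kernel' {A B : X.Modules} (f : A ⟶ B) (hA : Coh.IsCoh A) (hB : Coh.IsCoh B) :
    Coh.IsCoh (kernel f) :=
  Coherent.isCoh_kernel f hA hB.1

theorem ses_kernel {A B : X.Modules} (p : A ⟶ B) [Epi p] :
    (ShortComplex.mk (kernel.ι p) p (kernel.condition p)).ShortExact :=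
  ShortComplex.ShortExact.mk' (ShortComplex.exact_of_f_is_kernel _ (kernelIsKernel p)) inferInstance inferInstance

/-- The open nature of the bound on the projective dimension. -/
theorem exists_nhd_LT (hX : KRR.HasEnoughLocFree X) : ∀ (d : ℕ) (A : X.Modules), Coh.IsCoh A → ∀ x : X,
    HasProjectiveDimensionLT (st x A) (d + 1) →
    ∃ U : X.Opens, x ∈ U ∧ ∀ y ∈ U, HasProjectiveDimensionLT (st y A) (d + 1) := by
  intro d
  induction d with
  | zero =>
    intro A hA x h
    haveI := hA.1
    obtain ⟨U, n, hxU, ⟨e⟩⟩ := Props12.exists_nhd_free A (Coherent.isFP_of_isCoh hA) x (free_of_LT_one hA x h)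
    obtain ⟨W, hW, hxW, hWU⟩ := Opens.isBasis_iff_nbhd.mp X.isBasis_affineOpens hxU
    obtain ⟨b⟩ := Props12.exists_basis_sections e hWU
    refine ⟨W, hxW, fun y hy => ?_⟩
    let _ := (X.presheaf.germ W y hy).hom.toAlgebra
    let _ := Module.compHom (A.presheaf.stalk y) (X.presheaf.germ W y hy).hom
    have : IsScalarTower Γ(X, W) (X.presheaf.stalk y) (A.presheaf.stalk y) :=
      IsScalarTower.of_algebraMap_smul fun _ _ => rfl
    let φ : Γ(A, W) →ₗ[Γ(X, W)] A.presheaf.stalk y :=
      { toFun := A.presheaf.germ W y hy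
        map_add' := map_add _
        map_smul' := QCohLoc.germ_smul' (M := A) hy }
    have := EGA43.QcohFP.isLocalizedModule_germ A hW hy φ fun _ => rfl
    have := hW.isLocalization_stalk ⟨y, hy⟩
    haveI : Module.Free (X.presheaf.stalk y) (A.presheaf.stalk y) :=
      .of_basis (b.ofIsLocalizedModule (X.presheaf.stalk y) (hW.primeIdealOf ⟨y, hy⟩).asIdeal.primeCompl φ)
    haveI : Module.Projective (X.presheaf.stalk y) (st y A : Type u) :=
      inferInstanceAs (Module.Projective (X.presheaf.stalk y) (A.presheaf.stalk y))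
    exact projective_iff_hasProjectiveDimensionLT_one.1
      ((IsProjective.iff_projective (R := X.presheaf.stalk y) (st y A)).1 inferInstance)
  | succ d ih =>
    intro A hA x h
    obtain ⟨L, p, hL, hp⟩ := hX A hA
    haveI := hp
    have hK := isCoh_kernel' p (Coherent.CohBC.isCoh_of_isFinLocFree hL) hA
    have hS := fun y => st_shortExact y (ses_kernel p)
    obtain ⟨U, hxU, hU⟩ := ih (kernel p) hK x
      ((hS x).hasProjectiveDimensionLT_X₁ (d + 1) (LT_mono x L (LT_one_of_finLocFree hL x) (by omega)) h)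
    exact ⟨U, hxU, fun y hy => (hS y).hasProjectiveDimensionLT_X₃ (d + 1) (hU y hy)
      (LT_mono y L (LT_one_of_finLocFree hL y) (by omega))⟩

theorem bdd_of_regular [CompactSpace X] (hreg : ∀ x : X, IsRegularLocalRing (X.presheaf.stalk x))
    (hX : KRR.HasEnoughLocFree X) {A : X.Modules} (hA : Coh.IsCoh A) : Bdd A := by
  classical
  have h : ∀ x : X, ∃ (d : ℕ) (U : X.Opens), x ∈ U ∧ ∀ y ∈ U, HasProjectiveDimensionLT (st y A) (d + 1) := by
    intro x
    haveI := hreg x
    haveI : IsRegularRing (X.presheaf.stalk x) := CAlgH3.isRegularRing_of_isRegularLocalRing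
    haveI := AssSch12.finite_stalk hA x
    obtain ⟨d, hd⟩ := Groth.Agent.S5165.result (X.presheaf.stalk x) (A.presheaf.stalk x)
    exact ⟨d, exists_nhd_LT hX d A hA x hd⟩
  choose d U hxU hU using h
  obtain ⟨s, hs⟩ := isCompact_univ.elim_finite_subcover (fun x => (U x : Set X)) (fun x => (U x).isOpen)
    (fun x _ => Set.mem_iUnion.2 ⟨x, hxU x⟩)
  refine ⟨s.sup d, fun y => ?_⟩
  obtain ⟨x, hx, hy⟩ := Set.mem_iUnion₂.1 (hs (Set.mem_univ y))
  exact LT_mono y A (hU x y hy) (by have := Finset.le_sup (f := d) hx; omega)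

section Complex

variable (L : ChainComplex X.Modules ℕ)

omit [IsLocallyNoetherian X] in
theorem epi_toCycles (j : ℕ) (h : IsZero (L.homology j)) : Epi (L.toCycles (j + 1) j) := by
  refine Preadditive.epi_of_cancel_zero _ fun g hg => ?_
  have hc := L.homologyIsCokernel (j + 1) j (by simp)
  obtain ⟨l, hl⟩ := CokernelCofork.IsColimit.desc' hc g hg
  rw [← hl, h.eq_of_src l 0]
  exact comp_zero

omit [IsLocallyNoetherian X] in
theorem cycles_ses (j : ℕ) (h : IsZero (L.homology j)) :
    ∃ (w : L.iCycles (j + 1) ≫ L.toCycles (j + 1) j = 0),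
      (ShortComplex.mk (L.iCycles (j + 1)) (L.toCycles (j + 1) j) w).ShortExact := by
  have w : L.iCycles (j + 1) ≫ L.toCycles (j + 1) j = 0 := by
    rw [← cancel_mono (L.iCycles j), Category.assoc, HomologicalComplex.toCycles_i, HomologicalComplex.iCycles_d, zero_comp]
  haveI := epi_toCycles L j h
  refine ⟨w, ShortComplex.ShortExact.mk' (ShortComplex.exact_of_f_is_kernel _ ?_) inferInstance inferInstance⟩
  refine KernelFork.IsLimit.ofι' _ _ fun {T} k hk => ⟨L.liftCycles k j (by simp) ?_, L.liftCycles_i _ _ _ _⟩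
  rw [← HomologicalComplex.toCycles_i L (j + 1) j, ← Category.assoc]
  erw [hk]
  rw [zero_comp]

omit [IsLocallyNoetherian X] in
theorem zero_ses : ∃ (w : kernel.ι (L.homologyπ 0) ≫ L.homologyπ 0 = 0),
    (ShortComplex.mk (kernel.ι (L.homologyπ 0)) (L.homologyπ 0) w).ShortExact :=
  ⟨kernel.condition _, ShortComplex.ShortExact.mk' (ShortComplex.exact_of_f_is_kernel _ (kernelIsKernel _))
    inferInstance inferInstance⟩

omit [IsLocallyNoetherian X] in
theorem one_ses : ∃ (p : L.X 1 ⟶ kernel (L.homologyπ 0)) (w : L.iCycles 1 ≫ p = 0),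
    (ShortComplex.mk (L.iCycles 1) p w).ShortExact := by
  let p : L.X 1 ⟶ kernel (L.homologyπ 0) := kernel.lift _ (L.toCycles 1 0) (L.toCycles_comp_homologyπ 1 0)
  haveI : Epi p := (ShortComplex.exact_iff_epi_kernel_lift (S := ShortComplex.mk (L.toCycles 1 0) (L.homologyπ 0)
    (L.toCycles_comp_homologyπ 1 0))).1 (ShortComplex.exact_of_g_is_cokernel _ (L.homologyIsCokernel 1 0 (by simp)))
  have hp : p ≫ kernel.ι _ = L.toCycles 1 0 := kernel.lift_ι _ _ _
  have w : L.iCycles 1 ≫ p = 0 := by
    rw [← cancel_mono (kernel.ι _), Category.assoc, hp, ← cancel_mono (L.iCycles 0), Category.assoc,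
      HomologicalComplex.toCycles_i, HomologicalComplex.iCycles_d]
    simp
  refine ⟨p, w, ShortComplex.ShortExact.mk' (ShortComplex.exact_of_f_is_kernel _ ?_) inferInstance inferInstance⟩
  refine KernelFork.IsLimit.ofι' _ _ fun {T} k hk => ⟨L.liftCycles k 0 (by simp) ?_, L.liftCycles_i _ _ _ _⟩
  rw [← HomologicalComplex.toCycles_i L 1 0, ← hp, ← Category.assoc, ← Category.assoc]
  erw [hk]
  rw [zero_comp, zero_comp]

variable {L} (hL : ∀ i, FlatMod.IsFinLocFree (L.X i))
include hL

theorem isCoh_cycles (j : ℕ) : Coh.IsCoh (L.cycles j) := by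
  refine Coherent.isCoh_iso ?_ (isCoh_kernel' (L.d j ((ComplexShape.down ℕ).next j))
    (Coherent.CohBC.isCoh_of_isFinLocFree (hL _)) (Coherent.CohBC.isCoh_of_isFinLocFree (hL _)))
  exact (kernelIsKernel _).conePointUniqueUpToIso (L.cyclesIsKernel j _ rfl)

theorem LT_cycles_zero (x : X) : HasProjectiveDimensionLT (st x (L.cycles 0)) 1 := by
  haveI : IsIso (L.iCycles 0) := L.isIso_iCycles 0 0 (by simp) (L.shape 0 0 (by simp))
  exact LT_of_iso x (asIso (L.iCycles 0)).symm (LT_one_of_finLocFree (hL 0) x)

variable (hex : ∀ i, 1 ≤ i → L.ExactAt i)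
include hex

theorem LT_cycles (x : X) (d : ℕ) (h : HasProjectiveDimensionLT (st x (L.homology 0)) (d + 1)) :
    ∀ i : ℕ, HasProjectiveDimensionLT (st x (L.cycles (i + 1))) ((d - (i + 1)) + 1) := by
  intro i
  induction i with
  | zero =>
    obtain ⟨w0, h0⟩ := zero_ses L
    obtain ⟨p, w1, h1⟩ := one_ses L
    have hK : HasProjectiveDimensionLT (st x (kernel (L.homologyπ 0))) ((d - 1) + 1) :=
      (st_shortExact x h0).hasProjectiveDimensionLT_X₁ _ (LT_mono x _ (LT_cycles_zero hL x) (by omega))
        (LT_mono x _ h (by omega))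
    exact (st_shortExact x h1).hasProjectiveDimensionLT_X₁ _ (LT_mono x _ (LT_one_of_finLocFree (hL 1) x) (by omega))
      (LT_mono x _ hK (by omega))
  | succ i ih =>
    obtain ⟨w, hS⟩ := cycles_ses L (i + 1) (L.exactAt_iff_isZero_homology (i + 1) |>.1 (hex _ (by omega)))
    exact (st_shortExact x hS).hasProjectiveDimensionLT_X₁ _ (LT_mono x _ (LT_one_of_finLocFree (hL _) x) (by omega))
      (LT_mono x _ ih (by omega))

theorem finLocFree_cycles {d : ℕ} (h : ∀ x, HasProjectiveDimensionLT (st x (L.homology 0)) (d + 1)) :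
    FlatMod.IsFinLocFree (L.cycles (d + 1)) :=
  isFinLocFree_of_LT_one (isCoh_cycles hL _) fun x => LT_mono x _ (LT_cycles hL hex x d (h x) d) (by omega)

theorem bdd_homology (n : ℕ) (hz : ∀ i, n < i → IsZero (L.X i)) : Bdd (L.homology 0) := by
  have h : ∀ (x : X) (t j : ℕ), 1 ≤ j → n + 1 ≤ j + t → HasProjectiveDimensionLT (st x (L.cycles j)) (t + 1) := by
    intro x t
    induction t with
    | zero =>
      intro j _ hj
      have hzero : IsZero (L.cycles j) := IsZero.of_mono (L.iCycles j) (hz j (by omega))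
      haveI := ((DerSch.stalkFunctor X x).map_isZero hzero).hasProjectiveDimensionLT_zero
      exact hasProjectiveDimensionLT_of_ge _ 0 1 (by omega)
    | succ t ih =>
      intro j hj1 hj
      obtain ⟨w, hS⟩ := cycles_ses L j (L.exactAt_iff_isZero_homology j |>.1 (hex _ hj1))
      exact (st_shortExact x hS).hasProjectiveDimensionLT_X₃ (t + 1) (ih (j + 1) (by omega) (by omega))
        (LT_mono x _ (LT_one_of_finLocFree (hL _) x) (by omega))
  refine ⟨n + 2, fun x => ?_⟩
  obtain ⟨w0, h0⟩ := zero_ses L
  obtain ⟨p, w1, h1⟩ := one_ses L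
  have hK : HasProjectiveDimensionLT (st x (kernel (L.homologyπ 0))) (n + 2) :=
    (st_shortExact x h1).hasProjectiveDimensionLT_X₃ (n + 1) (h x n 1 le_rfl (by omega))
      (LT_mono x _ (LT_one_of_finLocFree (hL 1) x) (by omega))
  exact (st_shortExact x h0).hasProjectiveDimensionLT_X₃ (n + 2) hK
    (LT_mono x _ (LT_cycles_zero hL x) (by omega))

end Complex

theorem bdd_of_hasLFRes {A : X.Modules} (h : KRR.HasLFRes A) : Bdd A := by
  obtain ⟨n, L, π, hres⟩ := h
  haveI := hres.quasiIso
  have hex : ∀ i, 1 ≤ i → L.ExactAt i := fun i hi =>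
    (quasiIsoAt_iff_exactAt' π i (HomologicalComplex.exactAt_single_obj _ _ _ _ (by omega))).1 inferInstance
  obtain ⟨d, hd⟩ := bdd_homology (fun i => hres.finLocFree i) hex n hres.isZero
  exact ⟨d, fun x => LT_of_iso x (isoOfQuasiIsoAt π 0 ≪≫
    HomologicalComplex.singleObjHomologySelfIso (ComplexShape.down ℕ) 0 A) (hd x)⟩

theorem hasLFRes_of_bdd (hX : KRR.HasEnoughLocFree X) : ∀ (d : ℕ) (A : X.Modules), Coh.IsCoh A →
    (∀ x, HasProjectiveDimensionLT (st x A) (d + 1)) → KRR.HasLFRes A := by
  intro d
  induction d with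
  | zero =>
    intro A hA h
    refine ⟨0, (ChainComplex.single₀ X.Modules).obj A, 𝟙 _, ⟨fun i => ?_, fun i hi => ?_, inferInstance⟩⟩
    · cases i with
      | zero => exact isFinLocFree_of_LT_one hA h
      | succ i =>
        exact isFinLocFree_of_LT_one (SerreDual.isCoh_of_isZero (HomologicalComplex.isZero_single_obj_X _ _ _ _ (by omega)))
          fun x => by
            haveI := ((DerSch.stalkFunctor X x).map_isZero
              (HomologicalComplex.isZero_single_obj_X (ComplexShape.down ℕ) 0 A (i + 1) (by omega))).hasProjectiveDimensionLT_zero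
            exact hasProjectiveDimensionLT_of_ge _ 0 1 (by omega)
    · exact HomologicalComplex.isZero_single_obj_X _ _ _ _ (by omega)
  | succ d ih =>
    intro A hA h
    obtain ⟨E, p, hE, hp⟩ := hX A hA
    haveI := hp
    have hK := isCoh_kernel' p (Coherent.CohBC.isCoh_of_isFinLocFree hE) hA
    obtain ⟨n, L, π, hres⟩ := ih (kernel p) hK fun x =>
      (st_shortExact x (ses_kernel p)).hasProjectiveDimensionLT_X₁ (d + 1)
        (LT_mono x E (LT_one_of_finLocFree hE x) (by omega)) (h x)
    haveI := hres.quasiIso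
    let e : L.X 0 ⟶ kernel p := π.f 0
    have hde : L.d 1 0 ≫ e = 0 := (π.comm 1 0).symm.trans (by simp; exact comp_zero)
    have hw : L.d 1 0 ≫ e ≫ kernel.ι p = 0 := by rw [← Category.assoc, hde, zero_comp]
    let L' := L.augment (e ≫ kernel.ι p) hw
    have hexL : (ShortComplex.mk (L.d 1 0) e hde).Exact ∧ Epi e := by
      have := (inferInstance : QuasiIsoAt π 0)
      rw [ChainComplex.quasiIsoAt₀_iff, ShortComplex.quasiIso_iff_of_zeros'] at this
      · exact this
      all_goals first | rfl | exact L.shape 0 0 (by simp) | simp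
    haveI := hexL.2
    let π' : L' ⟶ (ChainComplex.single₀ X.Modules).obj A :=
      (ChainComplex.toSingle₀Equiv L' A).symm ⟨p, by
        show (e ≫ kernel.ι p) ≫ p = 0
        rw [Category.assoc, kernel.condition, comp_zero]⟩
    refine ⟨n + 1, L', π', ⟨fun i => ?_, fun i hi => ?_, ⟨fun i => ?_⟩⟩⟩
    · cases i with
      | zero => exact hE
      | succ i => exact hres.finLocFree i
    · cases i with
      | zero => omega
      | succ i => exact hres.isZero i (by omega)
    · cases i with
      | zero =>
        rw [ChainComplex.quasiIsoAt₀_iff, ShortComplex.quasiIso_iff_of_zeros']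
        · refine ⟨?_, ?_⟩
          · let φ : ShortComplex.mk (L'.d 1 0) p (by
                show (e ≫ kernel.ι p) ≫ p = 0
                rw [Category.assoc, kernel.condition, comp_zero]) ⟶ ShortComplex.mk (kernel.ι p) p (kernel.condition p) :=
              { τ₁ := e, τ₂ := 𝟙 _, τ₃ := 𝟙 _
                comm₁₂ := (Category.comp_id _).symm
                comm₂₃ := (Category.id_comp _).trans (Category.comp_id _).symm }
            haveI : Epi φ.τ₁ := hexL.2
            haveI : IsIso φ.τ₂ := inferInstanceAs (IsIso (𝟙 _))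
            haveI : Mono φ.τ₃ := inferInstanceAs (Mono (𝟙 _))
            have := (ShortComplex.exact_iff_of_epi_of_isIso_of_mono φ).2 (ses_kernel p).exact
            have h0 : π'.f 0 = p := ChainComplex.toSingle₀Equiv_symm_apply_f_zero _ _
            refine (ShortComplex.exact_iff_of_iso (ShortComplex.isoMk (Iso.refl _) (Iso.refl _) (Iso.refl _) ?_ ?_)).2 this
            · exact (Category.id_comp _).trans (Category.comp_id _).symm
            · exact ((Category.id_comp _).trans h0.symm).trans (Category.comp_id _).symm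
          · have : π'.f 0 = p := ChainComplex.toSingle₀Equiv_symm_apply_f_zero _ _
            show Epi (π'.f 0)
            rw [this]; exact hp
        all_goals first | rfl | exact L'.shape 0 0 (by simp) | simp
      | succ i =>
        rw [quasiIsoAt_iff_exactAt' _ _ (HomologicalComplex.exactAt_single_obj _ _ _ _ (by omega))]
        rw [HomologicalComplex.exactAt_iff' L' (i + 2) (i + 1) i (by simp) (by simp)]
        cases i with
        | zero =>
          let φ : ShortComplex.mk (L.d 1 0) e hde ⟶ L'.sc' 2 1 0 :=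
            { τ₁ := 𝟙 _, τ₂ := 𝟙 _, τ₃ := kernel.ι p
              comm₁₂ := (Category.id_comp _).trans (Category.comp_id _).symm
              comm₂₃ := Category.id_comp _ }
          haveI : Epi φ.τ₁ := inferInstanceAs (Epi (𝟙 _))
          haveI : IsIso φ.τ₂ := inferInstanceAs (IsIso (𝟙 _))
          haveI : Mono φ.τ₃ := inferInstanceAs (Mono (kernel.ι p))
          exact (ShortComplex.exact_iff_of_epi_of_isIso_of_mono φ).1 hexL.1
        | succ j =>
          have := (quasiIsoAt_iff_exactAt' π (j + 1) (HomologicalComplex.exactAt_single_obj _ _ _ _ (by omega))).1 inferInstance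
          rw [HomologicalComplex.exactAt_iff' L (j + 2) (j + 1) j (by simp) (by simp)] at this
          exact this

theorem cohBdd_eq (hX : KRR.HasEnoughLocFree X) :
    (fun M : X.Modules => Coh.IsCoh M ∧ KRR.HasLFRes M) = cohBdd X :=
  funext fun M => propext ⟨fun h => ⟨h.1, bdd_of_hasLFRes h.2⟩,
    fun h => ⟨h.1, hasLFRes_of_bdd hX h.2.choose M h.1 h.2.choose_spec⟩⟩

theorem bijective_cohBdd (hX : KRR.HasEnoughLocFree X) (hle : ∀ M : X.Modules, FlatMod.IsFinLocFree M → cohBdd X M) :
    Function.Bijective (SGA6.mapSub (𝟭 X.Modules) (fun M : X.Modules => FlatMod.IsFinLocFree M) (cohBdd X) hle) := by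
  haveI : ObjectProperty.IsClosedUnderIsomorphisms (fun M : X.Modules => FlatMod.IsFinLocFree M) :=
    ⟨fun e h x => let ⟨U, n, hx, ⟨i⟩⟩ := h x; ⟨U, n, hx, ⟨(Scheme.Modules.restrictFunctor U.ι).mapIso e.symm ≪≫ i⟩⟩⟩
  refine Resolution28.bijective_mapSub (⟨hle, fun S hS h1 h3 => ExtFilt28.isFinLocFree_extension hS h1 h3, ?_, ?_, ?_, ?_⟩ :
    Resolution28.Hyp (fun M : X.Modules => FlatMod.IsFinLocFree M) (cohBdd X)) hle ?_
  · intro S hS h1 h3
    obtain ⟨c1, d1, h1⟩ := h1
    obtain ⟨c3, d3, h3⟩ := h3
    refine ⟨Coherent.isCoh_X₂ hS c1 c3, d1 + d3, fun x => ?_⟩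
    exact (st_shortExact x hS).hasProjectiveDimensionLT_X₂ _ (LT_mono x _ (h1 x) (by omega))
      (LT_mono x _ (h3 x) (by omega))
  · intro S hS h2 h3
    haveI := hS.mono_f
    have c1 : Coh.IsCoh S.X₁ :=
      Coherent.isCoh_iso ((kernelIsKernel S.g).conePointUniqueUpToIso hS.fIsKernel)
        (isCoh_kernel' S.g (Coherent.CohBC.isCoh_of_isFinLocFree h2) (Coherent.CohBC.isCoh_of_isFinLocFree h3))
    exact isFinLocFree_of_LT_one c1 fun x => (st_shortExact x hS).hasProjectiveDimensionLT_X₁ 1
      (LT_one_of_finLocFree h2 x) (LT_mono x _ (LT_one_of_finLocFree h3 x) (by omega))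
  · intro S hS h2 h3
    haveI := hS.mono_f
    obtain ⟨c2, d2, h2⟩ := h2
    obtain ⟨c3, d3, h3⟩ := h3
    refine ⟨Coherent.isCoh_iso ((kernelIsKernel S.g).conePointUniqueUpToIso hS.fIsKernel) (isCoh_kernel' S.g c2 c3),
      d2 + d3, fun x => ?_⟩
    exact (st_shortExact x hS).hasProjectiveDimensionLT_X₁ _ (LT_mono x _ (h2 x) (by omega))
      (LT_mono x _ (h3 x) (by omega))
  · intro A B D u v hu hA hB hD
    have hP : Coh.IsCoh (pullback u v) := by
      haveI : Mono (pullback.fst u v ≫ biprod.inl + pullback.snd u v ≫ biprod.inr : pullback u v ⟶ A ⊞ D) :=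
        Preadditive.mono_of_cancel_zero _ fun g hg => by
          have h1 := congrArg (· ≫ biprod.fst) hg
          have h2 := congrArg (· ≫ biprod.snd) hg
          simp only [Category.assoc, Preadditive.add_comp, biprod.inl_fst, biprod.inr_fst, biprod.inl_snd,
            biprod.inr_snd, Category.comp_id, comp_zero, zero_comp, add_zero, zero_add] at h1 h2
          exact pullback.hom_ext (by rw [h1, zero_comp]) (by rw [h2, zero_comp])
      have hAD : Coh.IsCoh (A ⊞ D) := Coherent.isCoh_X₂ (ShortComplex.Splitting.ofHasBinaryBiproduct A D).shortExact hA.1 hD.1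
      let r : A ⊞ D ⟶ B := biprod.desc u (-v)
      let i : pullback u v ⟶ kernel r := kernel.lift r (pullback.fst u v ≫ biprod.inl + pullback.snd u v ≫ biprod.inr)
        (by simp [r, pullback.condition])
      let j : kernel r ⟶ pullback u v := pullback.lift (kernel.ι r ≫ biprod.fst) (kernel.ι r ≫ biprod.snd) (by
        have := kernel.condition r
        have h'' : biprod.fst ≫ u - biprod.snd ≫ v = r :=
          biprod.hom_ext' _ _ (by simp [r]) (by simp [r])
        have h' : kernel.ι r ≫ (biprod.fst ≫ u - biprod.snd ≫ v) = 0 := by rw [h'']; exact this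
        rw [Preadditive.comp_sub, sub_eq_zero] at h'
        simpa using h')
      refine Coherent.isCoh_iso (⟨j, i, ?_, ?_⟩ : kernel r ≅ pullback u v) (isCoh_kernel' r hAD hB.1)
      · rw [← cancel_mono (kernel.ι r), Category.assoc, kernel.lift_ι, Category.id_comp]
        apply biprod.hom_ext
        · simp only [Category.assoc, Preadditive.add_comp, biprod.inl_fst, biprod.inr_fst, Category.comp_id,
            comp_zero, add_zero]
          exact pullback.lift_fst _ _ _
        · simp only [Category.assoc, Preadditive.add_comp, biprod.inl_snd, biprod.inr_snd, Category.comp_id,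
            comp_zero, zero_add]
          exact pullback.lift_snd _ _ _
      · apply pullback.hom_ext
        · rw [Category.assoc, Category.id_comp]
          refine (congrArg (i ≫ ·) (pullback.lift_fst _ _ _)).trans ?_
          simp [i]
        · rw [Category.assoc, Category.id_comp]
          refine (congrArg (i ≫ ·) (pullback.lift_snd _ _ _)).trans ?_
          simp [i]
    obtain ⟨E, q, hE, hq⟩ := hX _ hP
    haveI := hq
    haveI := hu
    exact ⟨E, q ≫ pullback.snd u v, q ≫ pullback.fst u v, hE, epi_comp _ _, by simp [pullback.condition]⟩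
  · intro A hA
    obtain ⟨d, hd⟩ := hA.2
    exact ⟨d, fun L hL hex ⟨e⟩ => finLocFree_cycles hL hex fun x => LT_of_iso x e.symm (hd x)⟩

end Groth.Agent.ResLF28
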